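import Groth.Agent.Lib.SchColim29.CohPush
import Groth.Agent.Lib.DerivedOX.TensorTri
import Groth.Agent.Lib.DerivedOX.OpenSupport
import Groth.Agent.Lib.ProperFin.Devissage
import Groth.Prelude.Def_SGA6

/-!
# Bounded coherent objects and derived tensor products in triangles
-/

set_option autoImplicit false
set_option linter.style.haveILetI false
set_option linter.unusedSectionVars false

universe u

open CategoryTheory CategoryTheory.Limits CategoryTheory.Pretriangulated AlgebraicGeometry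

attribute [local instance] HasDerivedCategory.standard

namespace Groth.Agent.H83.RegCrit

open Groth.Agent.Lib Groth.Agent.Lib.DerivedOX DerivedCategory

variable {X : Scheme.{u}}

theorem cohbP_of_iso {A B : DCoh.D X} (e : A ≅ B) (h : SGA6.cohbP X A) : SGA6.cohbP X B := by
  obtain ⟨hc, a, b, ha, hb⟩ := h
  exact ⟨fun i => CohBasics.Closure.isCoh_of_iso ((homologyFunctor _ i).mapIso e) (hc i), a, b,
    TStructure.t.isGE_of_iso e a, TStructure.t.isLE_of_iso e b⟩

theorem cohbP_shift [IsLocallyNoetherian X] {A : DCoh.D X} (h : SGA6.cohbP X A) (n : ℤ) :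
    SGA6.cohbP X (A⟦n⟧) := by
  obtain ⟨hc, a, b, ha, hb⟩ := h
  exact ⟨fun i => CohBasics.Closure.isCoh_of_iso
      (((homologyFunctor X.Modules 0).shiftIso n i (n + i) rfl).app A).symm (hc (n + i)),
    a - n, b - n, TStructure.t.isGE_shift A a n (a - n) (by omega),
    TStructure.t.isLE_shift A b n (b - n) (by omega)⟩

theorem cohbP_of_isZero [IsLocallyNoetherian X] {A : DCoh.D X} (h : IsZero A) : SGA6.cohbP X A :=
  ⟨fun i => SchColim29.CohPush.isCoh_of_isZero ((homologyFunctor X.Modules i).map_isZero h), 0, 0,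
    (isGE_iff A 0).2 fun i _ => (homologyFunctor X.Modules i).map_isZero h,
    (isLE_iff A 0).2 fun i _ => (homologyFunctor X.Modules i).map_isZero h⟩

theorem cohbP₂ [IsLocallyNoetherian X] {T : Triangle (DCoh.D X)} (hT : T ∈ distTriang (DCoh.D X))
    (h₁ : SGA6.cohbP X T.obj₁) (h₃ : SGA6.cohbP X T.obj₃) : SGA6.cohbP X T.obj₂ := by
  obtain ⟨c₁, a, b, ha, hb⟩ := h₁
  obtain ⟨c₃, a', b', ha', hb'⟩ := h₃
  let H := homologyFunctor X.Modules
  refine ⟨fun n => ?_, min a a', max b b', ?_, ?_⟩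
  · exact SchColim29.CohPush.isCoh_mid (HomologySequence.δ T (n - 1) n (by omega))
      ((H n).map T.mor₁) ((H n).map T.mor₂) (HomologySequence.δ T n (n + 1) rfl)
      (HomologySequence.δ_comp T hT (n - 1) n (by omega))
      (by rw [← Functor.map_comp, comp_distTriang_mor_zero₁₂ _ hT, Functor.map_zero])
      (HomologySequence.comp_δ T hT n (n + 1) rfl)
      (HomologySequence.exact₁ T hT (n - 1) n (by omega)) (HomologySequence.exact₂ T hT n)
      (HomologySequence.exact₃ T hT n (n + 1) rfl) (c₃ (n - 1)).1 (c₁ n) (c₃ n) (c₁ (n + 1)).1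
  · exact TStructure.t.isGE₂ T hT _
      (TStructure.t.isGE_of_ge T.obj₁ (min a a') a (min_le_left _ _))
      (TStructure.t.isGE_of_ge T.obj₃ (min a a') a' (min_le_right _ _))
  · exact TStructure.t.isLE₂ T hT _
      (TStructure.t.isLE_of_le T.obj₁ b (max b b') (le_max_left _ _))
      (TStructure.t.isLE_of_le T.obj₃ b' (max b b') (le_max_right _ _))

theorem cohbP₁ [IsLocallyNoetherian X] {T : Triangle (DCoh.D X)} (hT : T ∈ distTriang (DCoh.D X))
    (h₂ : SGA6.cohbP X T.obj₂) (h₃ : SGA6.cohbP X T.obj₃) : SGA6.cohbP X T.obj₁ :=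
  cohbP₂ (inv_rot_of_distTriang _ hT) (cohbP_shift h₃ (-1)) h₂

theorem cohbP₃ [IsLocallyNoetherian X] {T : Triangle (DCoh.D X)} (hT : T ∈ distTriang (DCoh.D X))
    (h₁ : SGA6.cohbP X T.obj₁) (h₂ : SGA6.cohbP X T.obj₂) : SGA6.cohbP X T.obj₃ :=
  cohbP₂ (rot_of_distTriang _ hT) h₂ (cohbP_shift h₁ 1)

variable (F : CochainComplex X.Modules ℤ) [DCoh.HasLTensorCx F]

theorem LT_isZero {A : DCoh.D X} (hA : IsZero A) : IsZero ((DCoh.LTensorCx F).obj A) := by
  haveI := BettiExact.LTensorTri.additive_LTensorCx F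
  exact (DCoh.LTensorCx F).map_isZero hA

theorem nonempty_LT_shift_one (A : DCoh.D X) :
    Nonempty ((DCoh.LTensorCx F).obj (A⟦(1 : ℤ)⟧) ≅ ((DCoh.LTensorCx F).obj A)⟦(1 : ℤ)⟧) := by
  have hT := rot_of_distTriang _ (contractible_distinguished A)
  obtain ⟨δ, hδ⟩ := TensorTri.exists_dist F _ hT
  haveI : IsIso δ := (Triangle.isZero₂_iff_isIso₃ _ hδ).1 (by exact LT_isZero F (isZero_zero _))
  exact ⟨@asIso _ _ _ _ δ (by assumption)⟩

theorem nonempty_LT_shift (A : DCoh.D X) (n : ℤ) :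
    Nonempty ((DCoh.LTensorCx F).obj (A⟦n⟧) ≅ ((DCoh.LTensorCx F).obj A)⟦n⟧) := by
  have key : ∀ m : ℕ, ∀ B : DCoh.D X,
      Nonempty ((DCoh.LTensorCx F).obj (B⟦(m : ℤ)⟧) ≅ ((DCoh.LTensorCx F).obj B)⟦(m : ℤ)⟧) := by
    intro m
    induction m with
    | zero => exact fun B => ⟨(DCoh.LTensorCx F).mapIso ((shiftFunctorZero' (DCoh.D X) _ Nat.cast_zero).app B) ≪≫
        ((shiftFunctorZero' (DCoh.D X) _ Nat.cast_zero).app _).symm⟩
    | succ m ih =>
      intro B
      obtain ⟨e⟩ := nonempty_LT_shift_one F (B⟦(m : ℤ)⟧)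
      obtain ⟨e'⟩ := ih B
      exact ⟨(DCoh.LTensorCx F).mapIso ((shiftFunctorAdd' (DCoh.D X) (m : ℤ) 1 _ (by push_cast; rfl)).app B) ≪≫
        e ≪≫ (shiftFunctor _ (1 : ℤ)).mapIso e' ≪≫
        ((shiftFunctorAdd' (DCoh.D X) (m : ℤ) 1 _ (by push_cast; rfl)).app _).symm⟩
  rcases le_total 0 n with h | h
  · lift n to ℕ using h
    exact key n A
  · obtain ⟨m, hm⟩ : ∃ m : ℕ, (m : ℤ) = -n := ⟨(-n).toNat, by omega⟩
    obtain ⟨e⟩ := key m (A⟦n⟧)
    let i₁ := (shiftFunctorCompIsoId (DCoh.D X) n (m : ℤ) (by omega)).app A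
    exact ⟨((shiftFunctorCompIsoId (DCoh.D X) (m : ℤ) n (by omega)).app _).symm ≪≫
      (shiftFunctor _ n).mapIso (e.symm ≪≫ (DCoh.LTensorCx F).mapIso i₁)⟩

/-- Coherent modules whose product with `F` is bounded coherent. -/
def Q : X.Modules → Prop := fun M => SGA6.cohbP X ((DCoh.LTensorCx F).obj (DCoh.inD X M))

theorem thick_Q [IsLocallyNoetherian X] (T : Set X) : ProperFin.Devissage.Thick T (Q F) where
  of_isZero M hM := cohbP_of_isZero (LT_isZero F ((singleFunctor X.Modules 0).map_isZero hM))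
  two S hS _ _ _ := by
    obtain ⟨δ, hδ⟩ := TensorTri.exists_dist F _ hS.singleTriangle_distinguished
    exact ⟨fun h₁ h₃ => cohbP₂ hδ h₁ h₃, fun h₂ h₃ => cohbP₁ hδ h₂ h₃,
      fun h₁ h₂ => cohbP₃ hδ h₁ h₂⟩

theorem cohbP_LT_of_HD [IsLocallyNoetherian X] : ∀ (m : ℕ) (a : ℤ) (G : DCoh.D X),
    G.IsGE a → G.IsLE (a + m - 1) → (∀ i, Q F (DCoh.HD G i)) → SGA6.cohbP X ((DCoh.LTensorCx F).obj G) := by
  intro m
  induction m with
  | zero =>
    intro a G hge hle _
    haveI := hge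
    haveI := hle
    exact cohbP_of_isZero (LT_isZero F (WayOut.Bounded.isZero_of_isGE_of_isLE_lt G a (a + ((0 : ℕ) : ℤ) - 1) (by omega)))
  | succ m ih =>
    intro a G hge hle hQ
    haveI := hge
    haveI := hle
    have hT := TStructure.t.triangleLTGE_distinguished (a + 1) G
    let A := (TStructure.t.truncLT (a + 1)).obj G
    let B := (TStructure.t.truncGE (a + 1)).obj G
    haveI : B.IsGE (a + 1) := (inferInstance : TStructure.t.IsGE B (a + 1))
    haveI : A.IsGE a := WayOut.Bounded.isGE_truncLT G (a + 1) a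
    haveI : A.IsLE a := by
      have : TStructure.t.IsLE A (a + 1 - 1) := inferInstance
      simpa using this
    have hle' : B.IsLE (a + 1 + m - 1) := by
      haveI := WayOut.Bounded.isLE_truncGE G (a + 1) (a + (m + 1 : ℕ) - 1)
      convert this using 1
      push_cast
      ring
    have hB : ∀ i, Q F (DCoh.HD B i) := fun i => by
      by_cases hi : a + 1 ≤ i
      · exact cohbP_of_iso ((DCoh.LTensorCx F).mapIso ((singleFunctor X.Modules 0).mapIso
          (@asIso _ _ _ _ _ (WayOut.Bounded.isIso_homologyMap_truncGEπ G (a + 1) i hi)))) (hQ i)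
      · exact (thick_Q F Set.univ).of_isZero _ (isZero_of_isGE B (a + 1) i (by omega))
    have h₃ := ih (a + 1) B inferInstance hle' hB
    obtain ⟨M, ⟨e⟩⟩ := exists_iso_singleFunctor_obj_of_isGE_of_isLE A a
    let eM : DCoh.HD G a ≅ M :=
      (@asIso _ _ _ _ _ (WayOut.Bounded.isIso_homologyMap_truncLTι G (a + 1) a (by omega))).symm ≪≫
        (homologyFunctor _ a).mapIso e ≪≫ (singleFunctorCompHomologyFunctorIso _ a).app M
    have h₁ : SGA6.cohbP X ((DCoh.LTensorCx F).obj A) := by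
      obtain ⟨s⟩ := nonempty_LT_shift F (DCoh.inD X M) (-a)
      exact cohbP_of_iso ((s.symm ≪≫ (DCoh.LTensorCx F).mapIso
        ((((DerivedCategory.singleFunctors _).shiftIso (-a) a 0 (by omega)).app M) ≪≫ e.symm)))
        (cohbP_shift (cohbP_of_iso ((DCoh.LTensorCx F).mapIso ((singleFunctor X.Modules 0).mapIso eM)) (hQ a)) (-a))
    obtain ⟨δ, hδ⟩ := TensorTri.exists_dist F _ hT
    exact cohbP₂ hδ h₁ h₃

end Groth.Agent.H83.RegCrit
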