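import Groth.Agent.Lib.DerivedOX.RpushQCoh
import Groth.Agent.Lib.DerivedOX.PushExact
import Groth.Agent.Lib.DerivedOX.CompactUnit
import Groth.Agent.Lib.Modules.Support

/-!
# The direct image of the structure sheaf over an open where the morphism is a closed immersion
-/

set_option autoImplicit false
set_option linter.style.haveILetI false
set_option linter.unusedSectionVars false

universe u

open CategoryTheory CategoryTheory.Limits AlgebraicGeometry DerivedCategory

attribute [local instance] HasDerivedCategory.standard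

namespace Groth.Agent.H83.RegCrit

open Groth.Agent.Lib Groth.Agent.Lib.DerivedOX
open Groth.Agent.Lib.SpecSeq.RightHom Groth.Agent.Lib.SpecSeq.AcyclicComplex

variable {Z X : Scheme.{u}} (f : Z ⟶ X) [DCoh.HasRpush f]

theorem nonempty_HD_zero [QuasiCompact f] [QuasiSeparated f] :
    Nonempty (DCoh.HD ((DCoh.Rpush f).obj (CompactUnit.oneD Z)) 0 ≅
      (Coh.push f).obj (Coh.structureModule Z)) := by
  obtain ⟨θ⟩ := RpushQCoh.nonempty_HD_Rpush f (CompactUnit.oneD Z) 0
  obtain ⟨φ⟩ := RpushQCoh.nonempty_RS_iso f (Coh.structureModule Z) 0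
  exact ⟨θ ≪≫ φ ≪≫ (RpushQCoh.P f).rightDerivedZeroIsoSelf.app (Coh.structureModule Z)⟩

theorem not_mem_support_HD [QuasiCompact f] [QuasiSeparated f] {V : X.Opens} (hV : IsClosedImmersion (f ∣_ V)) {n : ℤ} (hn : n ≠ 0)
    {x : X} (hx : x ∈ V) :
    x ∉ CohB1.support (DCoh.HD ((DCoh.Rpush f).obj (CompactUnit.oneD Z)) n) := by
  haveI := hV
  let g := f ∣_ V
  haveI := Exists.hasRpush g
  haveI := PushExact.preservesFiniteColimits_pushforward g
  obtain ⟨θ⟩ := RpushQCoh.nonempty_restrict_HD f (CompactUnit.oneD Z) V n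
  obtain ⟨χ⟩ := RpushQCoh.nonempty_HD_Rpush g ((Perfect.Basic.RD (f ⁻¹ᵁ V).ι).obj (CompactUnit.oneD Z)) n
  obtain ⟨p⟩ := PushExact.nonempty_iso g
    ((CochainComplex.singleFunctor (f ⁻¹ᵁ V : Scheme.{u}).Modules 0).obj (Coh.structureModule _))
  let M := (Scheme.Modules.pushforward g).obj (Coh.structureModule (f ⁻¹ᵁ V : Scheme.{u}))
  let e : (DCoh.HD ((DCoh.Rpush f).obj (CompactUnit.oneD Z)) n).restrict V.ι ≅
      (homologyFunctor _ n).obj ((singleFunctor (V : Scheme.{u}).Modules 0).obj M) :=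
    θ ≪≫ χ.symm ≪≫ (homologyFunctor _ n).mapIso
      ((DCoh.Rpush g).mapIso (CompactUnit.restrictOneIso (f ⁻¹ᵁ V).ι ≪≫
        (DerivedCategory.singleFunctorIsoCompQ _ 0).app _) ≪≫ p ≪≫
        DerivedCategory.Q.mapIso ((HomologicalComplex.singleMapHomologicalComplex
          (Scheme.Modules.pushforward g) (ComplexShape.up ℤ) 0).app _) ≪≫
        ((DerivedCategory.singleFunctorIsoCompQ _ 0).app _).symm)
  have hz : IsZero ((homologyFunctor _ n).obj ((singleFunctor (V : Scheme.{u}).Modules 0).obj M)) := by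
    rcases lt_or_gt_of_ne hn with h | h
    · exact isZero_of_isGE _ 0 n h
    · exact isZero_of_isLE _ 0 n h
  have h0 : CohB1.support ((DCoh.HD ((DCoh.Rpush f).obj (CompactUnit.oneD Z)) n).restrict V.ι) = ∅ :=
    Modules.Support.support_eq_empty_iff.mpr (hz.of_iso e)
  intro hmem
  have : (⟨x, hx⟩ : (V : Scheme.{u})) ∈
      CohB1.support ((DCoh.HD ((DCoh.Rpush f).obj (CompactUnit.oneD Z)) n).restrict V.ι) := by
    rw [Modules.Support.support_restrict]
    exact hmem
  rw [h0] at this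
  exact this

end Groth.Agent.H83.RegCrit
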