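import Groth.Agent.H83.RegCrit.Hom
import Groth.Agent.H83.RegCrit.PushOne
import Groth.Agent.H83.ExtFinite.Projective
import Groth.Agent.Lib.Chow.Main
import Groth.Agent.Lib.ProperFin.Generator
import Groth.Agent.H52.DevSummand
import Groth.Agent.H75.RedSub

/-!
# Bounded coherent objects on a regular proper scheme over a field
-/

set_option autoImplicit false
set_option linter.style.haveILetI false
set_option linter.unusedSectionVars false

universe u

open CategoryTheory CategoryTheory.Limits CategoryTheory.Pretriangulated AlgebraicGeometry TopologicalSpace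

attribute [local instance] HasDerivedCategory.standard

namespace Groth.Agent.H83.RegCrit

open Groth.Agent.Lib Groth.Agent.Lib.DerivedOX Groth.Agent.Lib.Devissage.Basic
open DerivedCategory

variable {k : Type u} [Field k] {X : Scheme.{u}} [X.Over (Spec (CommRingCat.of k))]
  [IsProper (X ↘ Spec (CommRingCat.of k))]

theorem exists_gen (hreg : Models.IsRegularScheme X) {K : DCoh.D X} (hK : DCoh.IsQCohD K)
    (h : ∀ E : DCoh.D X, DCoh.IsPerfect E →
      (∀ l : ℤ, Module.Finite k (E ⟶ K⟦l⟧)) ∧ Set.Finite {l : ℤ | Nontrivial (E ⟶ K⟦l⟧)})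
    (C : CochainComplex X.Modules ℤ) (eC : DerivedCategory.Q.obj C ≅ K) [DCoh.HasLTensorCx C] (y : X)
    (hsmall : ∀ D, CohIn (closure {y}) D → y ∉ CohB1.support D → Q C D) :
    ∃ F, CohIn (closure {y}) F ∧
      Module.length (X.presheaf.stalk y) (F.presheaf.stalk y) = 1 ∧ Q C F := by
  haveI : IsLocallyNoetherian X :=
    LocallyOfFiniteType.isLocallyNoetherian (X ↘ Spec (CommRingCat.of k))
  haveI : CompactSpace X := QuasiCompact.compactSpace_of_compactSpace (X ↘ Spec (CommRingCat.of k))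
  haveI : IsNoetherian X := {}
  let Z := (IntMult.ptIdeal y).subscheme
  let i : Z ⟶ X := (IntMult.ptIdeal y).subschemeι
  haveI : AlgebraicGeometry.IsReduced Z := H75.RedSub.isReduced_vanishingIdeal _
  have hrange : Set.range i = closure ({y} : Set X) := Devissage.Closure.range_ptIdeal y
  obtain ⟨z, hz⟩ : y ∈ Set.range i := by rw [hrange]; exact subset_closure rfl
  have hcl : closure {z} = Set.univ := by
    rw [i.isClosedEmbedding.isInducing.closure_eq_preimage_closure_image, Set.image_singleton, hz,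
      ← hrange, Set.preimage_range]
  haveI : IrreducibleSpace Z :=
    { isPreirreducible_univ := hcl ▸ isIrreducible_singleton.closure.2
      toNonempty := ⟨z⟩ }
  haveI : IsIntegral Z := isIntegral_of_irreducibleSpace_of_isReduced Z
  have hgen : genericPoint Z = z := ((genericPoint_spec Z).eq (show IsGenericPoint z Set.univ from hcl))
  let s := i ≫ (X ↘ Spec (CommRingCat.of k))
  haveI : IsLocallyNoetherian Z := LocallyOfFiniteType.isLocallyNoetherian s
  haveI : CompactSpace Z := QuasiCompact.compactSpace_of_compactSpace s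
  haveI : IsNoetherian Z := {}
  obtain ⟨n, Z', π, j, U, hji, hj, hπ, -, hU, hUiso, -, -⟩ :=
    Chow.Main.chow s TopologicalSpace.NoetherianSpace.finite_irreducibleComponents
  haveI := hji
  haveI := hπ
  haveI := hUiso
  let f : Z' ⟶ X := π ≫ i
  letI : Z'.Over (Spec (CommRingCat.of k)) := ⟨π ≫ s⟩
  haveI : f.IsOver (Spec (CommRingCat.of k)) := ⟨Category.assoc _ _ _⟩
  haveI : IsProper (Z' ↘ Spec (CommRingCat.of k)) := inferInstanceAs (IsProper (π ≫ i ≫ _))
  haveI : IsClosedImmersion j := by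
    refine (IsClosedImmersion.iff_isProper_and_mono j).mpr ⟨?_, inferInstance⟩
    haveI : IsProper (j ≫ CohB1.ProjSpaceOver.toBase n (Spec (CommRingCat.of k))) := by
      rw [hj]; exact inferInstanceAs (IsProper (π ≫ i ≫ (X ↘ Spec (CommRingCat.of k))))
    haveI : IsProper (CohB1.ProjSpaceOver.toBase n (Spec (CommRingCat.of k))) :=
      ProjSpace.BaseChange.isProper_toBase n _
    exact IsProper.of_comp j (CohB1.ProjSpaceOver.toBase n (Spec (CommRingCat.of k)))
  have hproj : RelProj.IsHProjective (Z' ↘ Spec (CommRingCat.of k)) := ⟨n, j, inferInstance, hj⟩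
  haveI : IsLocallyNoetherian Z' := LocallyOfFiniteType.isLocallyNoetherian (Z' ↘ Spec (CommRingCat.of k))
  haveI : CompactSpace Z' := QuasiCompact.compactSpace_of_compactSpace (Z' ↘ Spec (CommRingCat.of k))
  haveI : IsNoetherian Z' := {}
  haveI := Exists.hasRpush f
  haveI := LeftExists.hasLpull f
  -- the pullback is bounded coherent
  have hY : SGA6.cohbP Z' ((DCoh.Lpull f).obj K) :=
    ExtFinite.Projective.cohbP_of_finite hproj (LpullQCoh.isQCohD_Lpull f K hK)
      fun E hE => finite_Lpull f hreg hK h E hE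
  have hcohPush : ∀ {W : DCoh.D Z'}, SGA6.cohbP Z' W → SGA6.cohbP X ((DCoh.Rpush f).obj W) := by
    rintro W ⟨hc, a, b, ha, hb⟩
    obtain ⟨h₁, h₂, b', h₃⟩ := Groth.Agent.S1001.result f W a b hc
      (fun m => ExtFinite.isProperOver_support f (hc m))
    exact ⟨h₁, a, b', h₂, h₃⟩
  let G := (DCoh.Rpush f).obj (CompactUnit.oneD Z')
  have hone : SGA6.cohbP Z' (CompactUnit.oneD Z') := by
    have hp : DCoh.IsPerfect (CompactUnit.oneD Z') := Gen43.Affine.isPerfect_oneD' _
    exact ⟨Perfect.Coherent.isCohD_of_isPerfect hp, Perfect.Coherent.bounded_of_isPerfect hp⟩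
  obtain ⟨hGc, -⟩ := hcohPush hone
  -- `C ⊗ Rf_* O` is bounded coherent
  let M := DerivedCategory.Q.objPreimage ((DCoh.Lpull f).obj K)
  let eM : DerivedCategory.Q.obj M ≅ (DCoh.Lpull f).obj K := DerivedCategory.Q.objObjPreimageIso _
  haveI := LeftExists.hasLTensorCx M
  have hC : DCoh.IsQCohD (DCoh.toD X C) := fun m => (WayOut.Scheme.qc X).prop_of_iso
    ((DerivedCategory.homologyFunctor _ m).mapIso eC).symm (hK m)
  obtain ⟨pf⟩ := Groth.Agent.S1118.result f (CompactUnit.oneD Z')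
    (Perfect.QCohD.isQCohD_of_isPerfect (Gen43.Affine.isPerfect_oneD' _)) C hC M
    ⟨eM ≪≫ (DCoh.Lpull f).mapIso eC.symm⟩
  have hCG : SGA6.cohbP X ((DCoh.LTensorCx C).obj G) :=
    cohbP_of_iso ((DCoh.Rpush f).mapIso
      (eM.symm ≪≫ (ExtFinite.oneTensorIso M).symm ≪≫ (DCoh.LTensorCx M).mapIso
        ((DerivedCategory.singleFunctorIsoCompQ Z'.Modules 0).app (Coh.structureModule Z')).symm) ≪≫ pf.symm)
      (hcohPush hY)
  -- the open over which `f` is a closed immersion
  obtain ⟨V₀, hV₀o, hV₀⟩ := i.isClosedEmbedding.isInducing.isOpen_iff.1 U.2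
  let V : X.Opens := ⟨V₀, hV₀o⟩ ⊔ ⟨(closure {y})ᶜ, isClosed_closure.isOpen_compl⟩
  have hiV : i ⁻¹ᵁ V = U := by
    refine TopologicalSpace.Opens.ext ?_
    change i ⁻¹' (V₀ ∪ (closure {y})ᶜ) = (U : Set Z)
    rw [← hrange, Set.preimage_union, hV₀, Set.preimage_compl, Set.preimage_range, Set.compl_univ,
      Set.union_empty]
    rfl
  have hne : genericPoint Z ∈ U := by
    obtain ⟨w, hw⟩ := hU.nonempty
    exact ((genericPoint_spec Z).mem_open_set_iff U.2).mpr ⟨w, trivial, hw⟩
  have hyV : y ∈ V := by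
    have : z ∈ i ⁻¹ᵁ V := by rw [hiV, ← hgen]; exact hne
    rw [← hz]
    exact this
  have hfV : IsClosedImmersion (f ∣_ V) := by
    haveI : IsIso (π ∣_ (i ⁻¹ᵁ V)) := by rw [hiV]; exact hUiso
    haveI : IsClosedImmersion (i ∣_ V) :=
      IsZariskiLocalAtTarget.restrict (P := @IsClosedImmersion) inferInstance V
    change IsClosedImmersion ((π ≫ i) ∣_ V)
    rw [morphismRestrict_comp]
    haveI : IsClosedImmersion (π ∣_ (i ⁻¹ᵁ V)) := by
      rw [IsClosedImmersion.iff_isProper_and_mono]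
      exact ⟨IsZariskiLocalAtTarget.restrict (P := @IsProper) hπ _, inferInstance⟩
    exact IsClosedImmersion.comp (π ∣_ (i ⁻¹ᵁ V)) (i ∣_ V)
  have hHD : ∀ m : ℤ, m ≠ 0 → CohIn (closure {y}) (DCoh.HD G m) ∧ y ∉ CohB1.support (DCoh.HD G m) :=
    fun m hm => ⟨⟨hGc m, fun x hx => by_contra fun hne' =>
      not_mem_support_HD f hfV hm (x := x) (Opens.mem_sup.2 (Or.inr hne')) hx⟩,
      not_mem_support_HD f hfV hm hyV⟩
  obtain ⟨e₀⟩ := nonempty_HD_zero f
  -- peel off the higher cohomology sheaves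
  haveI : (CompactUnit.oneD Z').IsGE 0 :=
    inferInstanceAs (((singleFunctor Z'.Modules 0).obj (Coh.structureModule Z')).IsGE 0)
  haveI hG0 : G.IsGE 0 := SchColim29.CohPush.Rpush_isGE f (CompactUnit.oneD Z') 0
  obtain ⟨-, -, b, -, hGb⟩ := hcohPush hone
  haveI := hGb
  have hT := TStructure.t.triangleLTGE_distinguished (0 + 1) G
  let T₁ := (TStructure.t.truncLT (0 + 1)).obj G
  let T₃ := (TStructure.t.truncGE (0 + 1)).obj G
  haveI : T₃.IsGE (0 + 1) := (inferInstance : TStructure.t.IsGE T₃ (0 + 1))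
  haveI : T₁.IsGE 0 := WayOut.Bounded.isGE_truncLT G (0 + 1) 0
  haveI : T₁.IsLE 0 := by
    have : TStructure.t.IsLE T₁ (0 + 1 - 1) := inferInstance
    simpa using this
  have h₃ : SGA6.cohbP X ((DCoh.LTensorCx C).obj T₃) := by
    haveI := WayOut.Bounded.isLE_truncGE G (0 + 1) b
    haveI : T₃.IsLE (0 + 1 + b.toNat - 1) := TStructure.t.isLE_of_le T₃ b _ (by omega)
    refine cohbP_LT_of_HD C b.toNat (0 + 1) T₃ inferInstance inferInstance fun m => ?_
    by_cases hm : 0 + 1 ≤ m
    · exact cohbP_of_iso ((DCoh.LTensorCx C).mapIso ((singleFunctor X.Modules 0).mapIso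
        (@asIso _ _ _ _ _ (WayOut.Bounded.isIso_homologyMap_truncGEπ G (0 + 1) m hm))))
        (hsmall _ (hHD m (by omega)).1 (hHD m (by omega)).2)
    · exact (thick_Q C Set.univ).of_isZero _ (isZero_of_isGE T₃ (0 + 1) m (by omega))
  obtain ⟨δ, hδ⟩ := TensorTri.exists_dist C _ hT
  have h₁ : SGA6.cohbP X ((DCoh.LTensorCx C).obj T₁) := cohbP₁ hδ hCG h₃
  obtain ⟨N, ⟨e⟩⟩ := exists_iso_singleFunctor_obj_of_isGE_of_isLE T₁ 0
  let eN : DCoh.HD G 0 ≅ N :=
    (@asIso _ _ _ _ _ (WayOut.Bounded.isIso_homologyMap_truncLTι G (0 + 1) 0 (by omega))).symm ≪≫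
      (homologyFunctor _ 0).mapIso e ≪≫ (singleFunctorCompHomologyFunctorIso _ 0).app N
  refine ⟨(Coh.push f).obj (Coh.structureModule Z'), ⟨CohBasics.Closure.isCoh_of_iso e₀ (hGc 0), ?_⟩, ?_, ?_⟩
  · intro x hx
    by_contra hne'
    exact hx (Cyc.SheafLen.subsingleton_push_stalk f (Coh.structureModule Z') (closure {y}) isClosed_closure
      (fun w _ => hrange ▸ ⟨π w, rfl⟩) x hne')
  · have := ProperFin.Generator.length_push π i hUiso hne (PicLoc.isInvertible_structureModule Z')
    rwa [hgen, hz] at this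
  · exact cohbP_of_iso ((DCoh.LTensorCx C).mapIso
      (e ≪≫ (singleFunctor X.Modules 0).mapIso (eN.symm ≪≫ e₀))) h₁

theorem cohbP_of_finite (hreg : Models.IsRegularScheme X) {K : DCoh.D X} (hK : DCoh.IsQCohD K)
    (h : ∀ E : DCoh.D X, DCoh.IsPerfect E →
      (∀ l : ℤ, Module.Finite k (E ⟶ K⟦l⟧)) ∧ Set.Finite {l : ℤ | Nontrivial (E ⟶ K⟦l⟧)}) :
    SGA6.cohbP X K := by
  haveI : IsLocallyNoetherian X :=
    LocallyOfFiniteType.isLocallyNoetherian (X ↘ Spec (CommRingCat.of k))
  haveI : CompactSpace X := QuasiCompact.compactSpace_of_compactSpace (X ↘ Spec (CommRingCat.of k))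
  haveI : IsNoetherian X := {}
  let C := DerivedCategory.Q.objPreimage K
  let eC : DerivedCategory.Q.obj C ≅ K := DerivedCategory.Q.objObjPreimageIso K
  haveI := LeftExists.hasLTensorCx C
  have key := Groth.Agent.H52.DevSummand.devissage' (Q C) ⊤ (thick_Q C _)
    (fun y _ => exists_gen hreg hK h C eC y) (Coh.structureModule X)
    ⟨CohBasics.Closure.isCoh_of_iso ((singleFunctorCompHomologyFunctorIso _ 0).app _)
      (Perfect.Coherent.isCohD_of_isPerfect (Gen43.Affine.isPerfect_oneD' _) 0), Set.subset_univ _⟩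
  exact cohbP_of_iso ((DCoh.LTensorCx C).mapIso
    ((DerivedCategory.singleFunctorIsoCompQ X.Modules 0).app (Coh.structureModule X)) ≪≫
    ExtFinite.oneTensorIso C ≪≫ eC) key

end Groth.Agent.H83.RegCrit
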