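import Groth.Agent.H83.ExtFinite.Main
import Groth.Agent.H83.RegCrit.Tri
import Groth.Agent.Lib.DerivedOX.DualMain
import Groth.Agent.Lib.DerivedOX.DualBidualPerfect
import Groth.Agent.Lib.DerivedOX.Kunneth
import Groth.Agent.Lib.DerivedOX.LpullQCoh
import Groth.Agent.S1001
import Groth.Agent.S1005
import Groth.Agent.S1118
import Groth.Agent.Lib.Perfect.Pullback
import Groth.Prelude.Def_Models

/-!
# Morphisms from perfect objects to a derived pullback
-/

set_option autoImplicit false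
set_option linter.style.haveILetI false
set_option linter.unusedSectionVars false

universe u

open CategoryTheory CategoryTheory.Limits AlgebraicGeometry

attribute [local instance] HasDerivedCategory.standard

namespace Groth.Agent.H83.RegCrit

open Groth.Agent.Lib Groth.Agent.Lib.DerivedOX Groth.Agent.H83.ExtFinite

variable {A : Type u} [CommRing A] {X : Scheme.{u}} [X.Over (Spec (CommRingCat.of A))]

theorem exists_kflat_model (K : DCoh.D X) :
    ∃ P : CochainComplex X.Modules ℤ, DCoh.IsKFlat P ∧ Nonempty (DerivedCategory.Q.obj P ≅ K) :=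
  ⟨(KFlat.res X).obj (DerivedCategory.Q.objPreimage K), KFlat.isKFlat_res _,
    ⟨asIso (DerivedCategory.Q.map ((KFlat.aug X).app _)) ≪≫ DerivedCategory.Q.objObjPreimageIso K⟩⟩

/-- A K-flat model of the dual of a perfect complex. -/
theorem exists_dual_model {P : CochainComplex X.Modules ℤ} (hP : DCoh.IsKFlat P)
    (hp : DCoh.IsPerfect (DerivedCategory.Q.obj P)) [DCoh.HasLTensorCx P] [DCoh.HasRSheafHom P] :
    ∃ D : CochainComplex X.Modules ℤ, DCoh.IsKFlat D ∧ DCoh.IsPerfect (DerivedCategory.Q.obj D) ∧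
      Nonempty (DerivedCategory.Q.obj D ≅ (DCoh.RSheafHom P).obj (DCoh.inD X (Coh.structureModule X))) := by
  obtain ⟨J₀, hp₀, ⟨e⟩⟩ := DualMain.exists_dual hP (𝟙 P) hp
  obtain ⟨D, hD, ⟨eD⟩⟩ := exists_kflat_model (DerivedCategory.Q.obj ((DualHom.Hc P).obj J₀))
  exact ⟨D, hD, Perfect.Triangle.isPerfect_of_iso eD.symm hp₀, ⟨eD ≪≫ e⟩⟩

/-- Morphisms out of a perfect object are global sections of the product with its dual. -/
theorem nonempty_homTensor {P D : CochainComplex X.Modules ℤ} (hP : DCoh.IsKFlat P)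
    (hp : DCoh.IsPerfect (DerivedCategory.Q.obj P)) [DCoh.HasLTensorCx P] [DCoh.HasRSheafHom P]
    [DCoh.HasLTensorCx D]
    (e : DerivedCategory.Q.obj D ≅ (DCoh.RSheafHom P).obj (DCoh.inD X (Coh.structureModule X)))
    (M : DCoh.D X) :
    Nonempty ((DerivedCategory.Q.obj P ⟶ M) ≃ₗ[A]
      (CompactUnit.oneD X ⟶ (DCoh.LTensorCx D).obj M)) := by
  obtain ⟨i⟩ := DualMain.nonempty_LTensorCx_iso_RSheafHom hP (𝟙 P) hp D e M
  haveI : (DCoh.LTensorCx P).Additive := BettiExact.LTensorTri.additive_LTensorCx P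
  haveI := Linear.linear_of_map_smul (R := A) (DCoh.LTensorCx P) (LTensorCx_map_smul P)
  let t : ((DCoh.LTensorCx P).obj (DerivedCategory.Q.obj (DerSch.unitCx X)) ⟶ M) ≃ₗ[A]
      (DerivedCategory.Q.obj (DerSch.unitCx X) ⟶ (DCoh.RSheafHom P).obj M) :=
    ({ ((DCoh.RSheafHomAdj P).homAddEquiv (DerivedCategory.Q.obj (DerSch.unitCx X)) M).symm with
      map_smul' := fun a f => by
        change ((DCoh.RSheafHomAdj P).homEquiv _ _).symm (a • f) = a • ((DCoh.RSheafHomAdj P).homEquiv _ _).symm f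
        rw [Adjunction.homEquiv_counit, Adjunction.homEquiv_counit, Functor.map_smul, CategoryTheory.Linear.smul_comp] } : _ ≃ₗ[A] _).symm
  exact ⟨CategoryTheory.Linear.homCongr A (oneTensorIso P).symm (Iso.refl M) ≪≫ₗ t ≪≫ₗ
    CategoryTheory.Linear.homCongr A
      ((DerivedCategory.singleFunctorIsoCompQ X.Modules 0).app (Coh.structureModule X)).symm i.symm⟩

section Key

variable [IsNoetherian X] {Z : Scheme.{u}} [Z.Over (Spec (CommRingCat.of A))] [IsNoetherian Z]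
  (f : Z ⟶ X) [IsProper f] [f.IsOver (Spec (CommRingCat.of A))] [DCoh.HasRpush f] [DCoh.HasLpull f]

/-- Global morphisms to the pullback are global morphisms downstairs. -/
theorem finite_Lpull (hreg : Models.IsRegularScheme X) {K : DCoh.D X} (hK : DCoh.IsQCohD K)
    (h : ∀ E : DCoh.D X, DCoh.IsPerfect E →
      (∀ l : ℤ, Module.Finite A (E ⟶ K⟦l⟧)) ∧ Set.Finite {l : ℤ | Nontrivial (E ⟶ K⟦l⟧)})
    (E : DCoh.D Z) (hE : DCoh.IsPerfect E) :
    (∀ l : ℤ, Module.Finite A (E ⟶ ((DCoh.Lpull f).obj K)⟦l⟧)) ∧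
      Set.Finite {l : ℤ | Nontrivial (E ⟶ ((DCoh.Lpull f).obj K)⟦l⟧)} := by
  obtain ⟨P, hP, ⟨eP⟩⟩ := exists_kflat_model E
  haveI := LeftExists.hasLTensorCx P
  haveI := DualHomExists.hasRSheafHom P
  have hp := Perfect.Triangle.isPerfect_of_iso eP.symm hE
  obtain ⟨D, -, hDp, ⟨eD⟩⟩ := exists_dual_model hP hp
  haveI := LeftExists.hasLTensorCx D
  -- the direct image of the dual is perfect
  obtain ⟨a, b, ha, hb⟩ := Perfect.Coherent.bounded_of_isPerfect hDp
  obtain ⟨hGc, hGa, b', hGb⟩ := Groth.Agent.S1001.result f (DerivedCategory.Q.obj D) a b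
    (Perfect.Coherent.isCohD_of_isPerfect hDp)
    (fun i => isProperOver_support f (Perfect.Coherent.isCohD_of_isPerfect hDp i))
  have hG : DCoh.IsPerfect ((DCoh.Rpush f).obj (DerivedCategory.Q.obj D)) :=
    haveI := hGa
    haveI := hGb
    Groth.Agent.S1005.result X hreg _ a b' hGc
  obtain ⟨G, hGk, ⟨eG⟩⟩ := exists_kflat_model ((DCoh.Rpush f).obj (DerivedCategory.Q.obj D))
  haveI := LeftExists.hasLTensorCx G
  haveI := DualHomExists.hasRSheafHom G
  have hGp := Perfect.Triangle.isPerfect_of_iso eG.symm hG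
  obtain ⟨N, hN, hNp, ⟨eN⟩⟩ := exists_dual_model hGk hGp
  haveI := LeftExists.hasLTensorCx N
  haveI := DualHomExists.hasRSheafHom N
  obtain ⟨eGN⟩ := DualBidualPerfect.nonempty_dual_dual hN hGp eN
  -- models
  let C := DerivedCategory.Q.objPreimage K
  let eC : DerivedCategory.Q.obj C ≅ K := DerivedCategory.Q.objObjPreimageIso K
  haveI := LeftExists.hasLTensorCx C
  let M := DerivedCategory.Q.objPreimage ((DCoh.Lpull f).obj K)
  let eM : DerivedCategory.Q.obj M ≅ (DCoh.Lpull f).obj K := DerivedCategory.Q.objObjPreimageIso _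
  haveI := LeftExists.hasLTensorCx M
  have hC : DCoh.IsQCohD (DCoh.toD X C) := fun i => (WayOut.Scheme.qc X).prop_of_iso
    ((DerivedCategory.homologyFunctor _ i).mapIso eC).symm (hK i)
  obtain ⟨pf⟩ := Groth.Agent.S1118.result f (DerivedCategory.Q.obj D)
    (Perfect.QCohD.isQCohD_of_isPerfect hDp) C hC M ⟨eM ≪≫ (DCoh.Lpull f).mapIso eC.symm⟩
  obtain ⟨s₁⟩ := Kunneth.nonempty_symm D M
  obtain ⟨s₂⟩ := Kunneth.nonempty_symm C G
  let w : (DCoh.Rpush f).obj ((DCoh.LTensorCx D).obj ((DCoh.Lpull f).obj K)) ≅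
      (DCoh.LTensorCx G).obj K :=
    (DCoh.Rpush f).mapIso ((DCoh.LTensorCx D).mapIso eM.symm ≪≫ s₁) ≪≫ pf.symm ≪≫
      (DCoh.LTensorCx C).mapIso eG.symm ≪≫ s₂ ≪≫ (DCoh.LTensorCx G).mapIso eC
  obtain ⟨one⟩ := RpushCoprod.nonempty_Lpull_one f
  have key : ∀ l : ℤ, Nonempty ((E ⟶ ((DCoh.Lpull f).obj K)⟦l⟧) ≃ₗ[A]
      (DerivedCategory.Q.obj N ⟶ K⟦l⟧)) := by
    intro l
    obtain ⟨t₁⟩ := nonempty_homTensor (A := A) hP hp eD (((DCoh.Lpull f).obj K)⟦l⟧)
    obtain ⟨c₁⟩ := nonempty_LT_shift D ((DCoh.Lpull f).obj K) l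
    let W := (DCoh.LTensorCx D).obj ((DCoh.Lpull f).obj K)
    have hR := Rpush_map_smul (A := A) f
    haveI := Linear.linear_of_map_smul (R := A) (DCoh.Rpush f) hR
    let t₂ : ((DCoh.Lpull f).obj (CompactUnit.oneD X) ⟶ W⟦l⟧) ≃ₗ[A]
        (CompactUnit.oneD X ⟶ (DCoh.Rpush f).obj (W⟦l⟧)) :=
      { (PullPushAdj.derivedAdjunction f).homAddEquiv (CompactUnit.oneD X) (W⟦l⟧) with
        map_smul' := fun a φ => by simp [Adjunction.homEquiv_unit] }
    obtain ⟨t₃⟩ := nonempty_homTensor (A := A) hN hNp eGN.symm (K⟦l⟧)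
    obtain ⟨c₂⟩ := nonempty_LT_shift G K l
    exact ⟨CategoryTheory.Linear.homCongr A eP.symm (Iso.refl _) ≪≫ₗ t₁ ≪≫ₗ
      CategoryTheory.Linear.homCongr A one.symm c₁ ≪≫ₗ t₂ ≪≫ₗ
      CategoryTheory.Linear.homCongr A (Iso.refl _)
        (((DCoh.Rpush f).commShiftIso l).app W ≪≫ (shiftFunctor (DCoh.D X) l).mapIso w ≪≫ c₂.symm) ≪≫ₗ
      t₃.symm⟩
  refine ⟨fun l => ?_, ?_⟩
  · obtain ⟨e⟩ := key l
    haveI := (h _ hNp).1 l
    exact Module.Finite.equiv e.symm
  · refine (h _ hNp).2.subset fun l hl => ?_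
    obtain ⟨e⟩ := key l
    haveI : Nontrivial _ := hl
    exact e.symm.toEquiv.nontrivial

end Key

end Groth.Agent.H83.RegCrit
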